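import Mathlib
import Groth.Prelude.Def_SpSeq

set_option linter.unusedSectionVars false
set_option linter.unusedVariables false
set_option linter.unusedSimpArgs false
set_option autoImplicit false
set_option linter.style.haveILetI false
set_option linter.deprecated false
set_option maxHeartbeats 400000

/-!
# Basic facts on spectral sequences: vanishing propagates along pages
-/

namespace Groth.Agent.Helper6.SpSeqLib

open CategoryTheory Limits

universe v u

variable {C : Type u} [Category.{v} C] [Abelian C] {r₀ : ℤ}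

theorem isZero_page_succ (E : CohomologicalSpectralSequence C r₀) (pq : ℤ × ℤ)
    (r : ℤ) (hr : r₀ ≤ r) (h : IsZero ((E.page r hr).X pq)) :
    IsZero ((E.page (r + 1) (hr.trans (Int.le_add_one le_rfl))).X pq) := by
  refine IsZero.of_iso ?_ (E.iso r (r + 1) pq rfl hr).symm
  exact ShortComplex.isZero_homology_of_isZero_X₂ _ h

theorem isZero_page_of_le (E : CohomologicalSpectralSequence C r₀) (pq : ℤ × ℤ)
    (r : ℤ) (hr : r₀ ≤ r) (h : IsZero ((E.page r hr).X pq)) :
    ∀ (r' : ℤ) (hrr' : r ≤ r'), IsZero ((E.page r' (hr.trans hrr')).X pq) := by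
  intro r' hrr'
  induction r', hrr' using Int.le_induction with
  | base => exact h
  | succ n hn ih => exact isZero_page_succ E pq n (hr.trans hn) ih

theorem homologyMap_eq_zero_of_f_eq_zero {ι : Type*} {c : ComplexShape ι}
    {K L : HomologicalComplex C c} (φ : K ⟶ L) (i : ι) (h : φ.f i = 0) :
    HomologicalComplex.homologyMap φ i = 0 := by
  have h1 : HomologicalComplex.cyclesMap φ i = 0 := by
    rw [← cancel_mono (L.iCycles i), HomologicalComplex.cyclesMap_i, h, comp_zero, zero_comp]
  rw [← cancel_epi (K.homologyπ i), HomologicalComplex.homologyπ_naturality, h1, zero_comp,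
    comp_zero]

theorem hom_f_eq_zero_succ {E E' : CohomologicalSpectralSequence C r₀} (φ : E ⟶ E')
    (pq : ℤ × ℤ) (r : ℤ) (hr : r₀ ≤ r) (h : (φ.hom r hr).f pq = 0) :
    (φ.hom (r + 1) (hr.trans (Int.le_add_one le_rfl))).f pq = 0 := by
  have hc := φ.comm r (r + 1) pq rfl hr
  rw [homologyMap_eq_zero_of_f_eq_zero _ _ h, zero_comp] at hc
  rw [← cancel_epi (E.iso r (r + 1) pq rfl hr).hom, ← hc, comp_zero]

theorem hom_f_eq_zero_of_le {E E' : CohomologicalSpectralSequence C r₀} (φ : E ⟶ E')
    (pq : ℤ × ℤ) (r : ℤ) (hr : r₀ ≤ r) (h : (φ.hom r hr).f pq = 0) :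
    ∀ (r' : ℤ) (hrr' : r ≤ r'), (φ.hom r' (hr.trans hrr')).f pq = 0 := by
  intro r' hrr'
  induction r', hrr' using Int.le_induction with
  | base => exact h
  | succ n hn ih => exact hom_f_eq_zero_succ φ pq n (hr.trans hn) ih

section Fil

variable {X : C} (F : ℤ → Subobject X) (hF : Antitone F)

theorem fil_succ_eq_of_isZero_grPiece (p : ℤ) (h : IsZero (SpSeq.grPiece F hF p)) :
    F (p + 1) = F p := by
  have hle : F (p + 1) ≤ F p := hF (Int.le_add_one le_rfl)
  haveI : Epi ((F (p + 1)).ofLE (F p) hle) := Preadditive.epi_of_isZero_cokernel _ h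
  haveI : IsIso ((F (p + 1)).ofLE (F p) hle) := isIso_of_mono_of_epi _
  apply le_antisymm hle
  refine Subobject.le_of_comm (inv ((F (p + 1)).ofLE (F p) hle)) ?_
  rw [IsIso.inv_comp_eq, Subobject.ofLE_arrow]

include hF in
theorem fil_eq_top_of_isZero_gr_below (htop : ∃ a, F a = ⊤) (a₀ : ℤ)
    (h : ∀ i, i < a₀ → IsZero (SpSeq.grPiece F hF i)) : F a₀ = ⊤ := by
  obtain ⟨a, ha⟩ := htop
  rcases le_total a₀ a with hle | hle
  · exact top_le_iff.mp (ha ▸ hF hle)
  · have key : ∀ k : ℕ, a + k ≤ a₀ → F (a + k) = ⊤ := by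
      intro k
      induction k with
      | zero => intro _; simpa using ha
      | succ k ih =>
        intro hk
        have h1 : a + k < a₀ := by push_cast at hk; omega
        have h2 := fil_succ_eq_of_isZero_grPiece F hF (a + k) (h _ h1)
        have h3 : a + ((k + 1 : ℕ) : ℤ) = a + k + 1 := by push_cast; ring
        rw [h3, h2]
        exact ih (le_of_lt h1)
    have := key (a₀ - a).toNat (by rw [Int.toNat_of_nonneg (by omega)]; omega)
    rw [Int.toNat_of_nonneg (by omega)] at this
    simpa using this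

include hF in
theorem fil_eq_bot_of_isZero_gr_above (hbot : ∃ b, F b = ⊥) (a₀ : ℤ)
    (h : ∀ i, a₀ < i → IsZero (SpSeq.grPiece F hF i)) : F (a₀ + 1) = ⊥ := by
  obtain ⟨b, hb⟩ := hbot
  rcases le_total b (a₀ + 1) with hle | hle
  · exact le_bot_iff.mp (hb ▸ hF hle)
  · have key : ∀ k : ℕ, F (a₀ + 1 + k) = F (a₀ + 1) := by
      intro k
      induction k with
      | zero => simp
      | succ k ih =>
        have h1 : a₀ < a₀ + 1 + k := by omega
        have h2 := fil_succ_eq_of_isZero_grPiece F hF (a₀ + 1 + k) (h _ h1)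
        have h3 : a₀ + 1 + ((k + 1 : ℕ) : ℤ) = a₀ + 1 + k + 1 := by push_cast; ring
        rw [h3, h2]
        exact ih
    have := key (b - (a₀ + 1)).toNat
    rw [Int.toNat_of_nonneg (by omega)] at this
    have h4 : a₀ + 1 + (b - (a₀ + 1)) = b := by ring
    rw [h4, hb] at this
    exact this.symm

end Fil

end Groth.Agent.Helper6.SpSeqLib
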