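import Mathlib
import Groth.Prelude.Def_SpSeq
import Groth.Prelude.Def_W4c1gvcharpAbut
import Groth.Agent.Lib.Helper6.SpSeqL.Basic

set_option linter.unusedSectionVars false
set_option linter.unusedVariables false
set_option linter.unusedSimpArgs false
set_option autoImplicit false
set_option linter.style.haveILetI false
set_option linter.deprecated false
set_option maxHeartbeats 400000

/-!
# Vanishing of a morphism of abutments
-/

namespace Groth.Agent.Helper6.SpSeqLib

open CategoryTheory Limits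

universe v u

variable {C : Type u} [Category.{v} C] [Abelian C] {r₀ : ℤ}

theorem isZero_of_eq_bot {X : C} (S : Subobject X) (h : S = ⊥) : IsZero (S : C) := by
  subst h
  exact IsZero.of_iso (isZero_zero C) Subobject.botCoeIsoZero

theorem filLift_hom_eq_zero {K L : SpSeq.FilObj C} (fl : SpSeqMor.FilLift K L) (p : ℤ)
    (htop : K.fil p = ⊤) (hbot : L.fil (p + 1) = ⊥) (hgr : fl.gr p = 0) : fl.hom = 0 := by
  -- lift p ≫ π = 0
  have h1 : fl.lift p ≫ cokernel.π (L.stepLE (Int.le_add_one (le_refl p))) = 0 := by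
    have : cokernel.π (K.stepLE (Int.le_add_one (le_refl p))) ≫ fl.gr p =
        fl.lift p ≫ cokernel.π (L.stepLE (Int.le_add_one (le_refl p))) :=
      cokernel.π_desc _ _ _
    rw [hgr] at this
    exact this.symm.trans comp_zero
  have hz : IsZero (L.step (p + 1)) := isZero_of_eq_bot _ hbot
  have hg0 : L.stepLE (Int.le_add_one (le_refl p)) = 0 := hz.eq_of_src _ _
  have h2 : fl.lift p = 0 := by
    have h3 : cokernel.π (L.stepLE (Int.le_add_one (le_refl p))) ≫
        cokernel.desc (L.stepLE (Int.le_add_one (le_refl p))) (𝟙 _) (by rw [hg0, zero_comp]) =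
          𝟙 _ := cokernel.π_desc _ _ _
    calc fl.lift p = fl.lift p ≫ 𝟙 _ := (Category.comp_id _).symm
      _ = fl.lift p ≫ cokernel.π (L.stepLE (Int.le_add_one (le_refl p))) ≫
          cokernel.desc (L.stepLE (Int.le_add_one (le_refl p))) (𝟙 _)
            (by rw [hg0, zero_comp]) := by rw [h3]
      _ = 0 := by rw [← Category.assoc, h1, zero_comp]
  have h4 : (K.fil p).arrow ≫ fl.hom = 0 := by
    rw [← fl.lift_arrow, h2, zero_comp]
  haveI : IsIso (K.fil p).arrow := (Subobject.isIso_arrow_iff_eq_top _).mpr htop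
  rw [← cancel_epi (K.fil p).arrow, h4, comp_zero]

theorem abutHom_eq_zero {E E' : CohomologicalSpectralSequence C r₀} {H H' : ℤ → C}
    {φ : E ⟶ E'} {a : SpSeq.Abutment E H} {a' : SpSeq.Abutment E' H'}
    (f : SpSeqMor.AbutHom φ a a') (pq : ℤ × ℤ)
    (htop : a.fil (pq.1 + pq.2) pq.1 = ⊤) (hbot : a'.fil (pq.1 + pq.2) (pq.1 + 1) = ⊥)
    (hφ : ∀ (r : ℤ) (hr : r₀ ≤ r), (φ.hom r hr).f pq = 0) : f.hom (pq.1 + pq.2) = 0 := by
  apply filLift_hom_eq_zero (f.fil (pq.1 + pq.2)) pq.1 htop hbot
  -- choose k k'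
  set m := max (a.rk pq) (a'.rk pq) with hm
  have hk : a.rk pq + ((m - a.rk pq).toNat : ℤ) = a'.rk pq + ((m - a'.rk pq).toNat : ℤ) := by
    rw [Int.toNat_of_nonneg (by have := le_max_left (a.rk pq) (a'.rk pq); omega),
      Int.toNat_of_nonneg (by have := le_max_right (a.rk pq) (a'.rk pq); omega)]
    ring
  have hcomm := f.comm pq _ _ hk
  rw [hφ, zero_comp, comp_zero, comp_zero] at hcomm
  exact (cancel_epi (a.β pq).hom).mp (hcomm.trans comp_zero.symm)

end Groth.Agent.Helper6.SpSeqLib
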