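import Mathlib
import Groth.Prelude.Def_SpSeq
import Groth.Agent.Lib.Helper6.SpSeqL.Basic

set_option linter.unusedSectionVars false
set_option linter.unusedVariables false
set_option linter.unusedSimpArgs false
set_option autoImplicit false
set_option linter.style.haveILetI false
set_option linter.deprecated false
set_option maxHeartbeats 400000

/-!
# Dimension counts in spectral sequences of vector spaces
-/

namespace Groth.Agent.Helper6.SpSeqLib

open CategoryTheory Limits

universe v u

variable {K : Type u} [Field K]

/-- Homology of a short complex of finite-dimensional vector spaces: dimension bound. -/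
theorem finrank_homology_le (S : ShortComplex (ModuleCat.{v} K)) [Module.Finite K S.X₂] :
    Module.Finite K S.homology ∧ Module.finrank K S.homology ≤ Module.finrank K S.X₂ ∧
    (Module.finrank K S.homology = Module.finrank K S.X₂ → S.f = 0 ∧ S.g = 0) := by
  let e : S.homology ≃ₗ[K] (LinearMap.ker S.g.hom ⧸ LinearMap.range S.moduleCatToCycles) :=
    S.moduleCatHomologyIso.toLinearEquiv
  have hfin : Module.Finite K S.homology := Module.Finite.equiv e.symm
  have heq : Module.finrank K S.homology =
      Module.finrank K (LinearMap.ker S.g.hom ⧸ LinearMap.range S.moduleCatToCycles) :=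
    e.finrank_eq
  have h1 := Submodule.finrank_quotient_add_finrank (LinearMap.range S.moduleCatToCycles)
  have h2 : Module.finrank K (LinearMap.ker S.g.hom) ≤ Module.finrank K S.X₂ :=
    Submodule.finrank_le _
  refine ⟨hfin, by omega, ?_⟩
  intro h
  have h3 : Module.finrank K (LinearMap.ker S.g.hom) = Module.finrank K S.X₂ := by omega
  have h4 : Module.finrank K (LinearMap.range S.moduleCatToCycles) = 0 := by omega
  have hker : LinearMap.ker S.g.hom = ⊤ := Submodule.eq_top_of_finrank_eq h3
  have hrange : LinearMap.range S.moduleCatToCycles = ⊥ := Submodule.finrank_eq_zero.mp h4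
  constructor
  · ext x
    have hx : S.moduleCatToCycles x ∈ LinearMap.range S.moduleCatToCycles :=
      LinearMap.mem_range_self _ x
    rw [hrange, Submodule.mem_bot] at hx
    have := congrArg Subtype.val hx
    exact this
  · ext x
    have hx : x ∈ LinearMap.ker S.g.hom := by rw [hker]; trivial
    exact hx

variable {r₀ : ℤ}

/-- Passing to the next page: dimension bound at a position. -/
theorem page_succ_dim (E : CohomologicalSpectralSequence (ModuleCat.{v} K) r₀) (pq : ℤ × ℤ)
    (r : ℤ) (hr : r₀ ≤ r) [Module.Finite K ((E.page r hr).X pq)] :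
    Module.Finite K ((E.page (r + 1) (hr.trans (Int.le_add_one le_rfl))).X pq) ∧
    Module.finrank K ((E.page (r + 1) (hr.trans (Int.le_add_one le_rfl))).X pq) ≤
      Module.finrank K ((E.page r hr).X pq) ∧
    (Module.finrank K ((E.page (r + 1) (hr.trans (Int.le_add_one le_rfl))).X pq) =
      Module.finrank K ((E.page r hr).X pq) →
      (E.page r hr).d (pq - (r, 1 - r)) pq = 0 ∧ (E.page r hr).d pq (pq + (r, 1 - r)) = 0) := by
  haveI : Module.Finite K ((E.page r hr).sc pq).X₂ := ‹_›
  obtain ⟨hfin, hle, heq⟩ := finrank_homology_le ((E.page r hr).sc pq)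
  let e : ((E.page r hr).sc pq).homology ≃ₗ[K]
      ((E.page (r + 1) (hr.trans (Int.le_add_one le_rfl))).X pq) :=
    (E.iso r (r + 1) pq rfl hr).toLinearEquiv
  have he : Module.finrank K ((E.page r hr).sc pq).homology =
      Module.finrank K ((E.page (r + 1) (hr.trans (Int.le_add_one le_rfl))).X pq) :=
    e.finrank_eq
  refine ⟨Module.Finite.equiv e, ?_, ?_⟩
  · rw [← he]; exact hle
  · intro h
    obtain ⟨hf, hg⟩ := heq (by rw [he]; exact h)
    constructor
    · have : (E.page r hr).d ((ComplexShape.up' ((r, 1 - r) : ℤ × ℤ)).prev pq) pq = 0 := hf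
      rw [(ComplexShape.up' ((r, 1 - r) : ℤ × ℤ)).prev_eq'
        (sub_add_cancel pq ((r, 1 - r) : ℤ × ℤ))] at this
      exact this
    · have : (E.page r hr).d pq ((ComplexShape.up' ((r, 1 - r) : ℤ × ℤ)).next pq) = 0 := hg
      rw [(ComplexShape.up' ((r, 1 - r) : ℤ × ℤ)).next_eq' rfl] at this
      exact this

/-- Along the pages from `r₀`: finiteness, dimension bound, and rigidity in case of equality. -/
theorem page_dim_chain (E : CohomologicalSpectralSequence (ModuleCat.{v} K) r₀) (pq : ℤ × ℤ)
    (hfd : Module.Finite K ((E.page r₀ le_rfl).X pq)) :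
    ∀ (r' : ℤ) (hr' : r₀ ≤ r'),
      Module.Finite K ((E.page r' hr').X pq) ∧
      Module.finrank K ((E.page r' hr').X pq) ≤ Module.finrank K ((E.page r₀ le_rfl).X pq) ∧
      (Module.finrank K ((E.page r' hr').X pq) = Module.finrank K ((E.page r₀ le_rfl).X pq) →
        ∀ (s : ℤ) (hs : r₀ ≤ s), s < r' →
          (E.page s hs).d (pq - (s, 1 - s)) pq = 0 ∧ (E.page s hs).d pq (pq + (s, 1 - s)) = 0) := by
  intro r' hr'
  induction r', hr' using Int.le_induction with
  | base =>
    refine ⟨hfd, le_rfl, ?_⟩
    intro _ s hs hlt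
    omega
  | succ n hn ih =>
    obtain ⟨hfin, hle, hrig⟩ := ih
    haveI := hfin
    obtain ⟨hfin', hle', hrig'⟩ := page_succ_dim E pq n hn
    refine ⟨hfin', hle'.trans hle, ?_⟩
    intro heq s hs hlt
    have h1 : Module.finrank K ((E.page (n + 1) (hn.trans (Int.le_add_one le_rfl))).X pq) =
        Module.finrank K ((E.page n hn).X pq) := by omega
    have h2 : Module.finrank K ((E.page n hn).X pq) =
        Module.finrank K ((E.page r₀ le_rfl).X pq) := by omega
    rcases lt_or_eq_of_le (Int.lt_add_one_iff.mp hlt) with hlt' | heq'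
    · exact hrig h2 s hs hlt'
    · subst heq'
      exact hrig' h1

end Groth.Agent.Helper6.SpSeqLib
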