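import Mathlib
import Groth.Prelude.Def_SpSeq
import Groth.Agent.Lib.Helper6.SpSeqL.Basic
import Groth.Agent.Lib.Helper6.SpSeqL.Dim

set_option linter.unusedSectionVars false
set_option linter.unusedVariables false
set_option linter.unusedSimpArgs false
set_option autoImplicit false
set_option linter.style.haveILetI false
set_option linter.deprecated false
set_option maxHeartbeats 400000

/-!
# Stationarity from a dimension count
-/

namespace Groth.Agent.Helper6.SpSeqLib

open CategoryTheory Limits

universe v u

variable {K : Type u} [Field K]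

theorem isZero_of_eq_bot' {C : Type*} [Category C] [Abelian C] {X : C} (S : Subobject X)
    (h : S = ⊥) : IsZero (S : C) := by
  subst h
  exact IsZero.of_iso (isZero_zero C) Subobject.botCoeIsoZero

section Fil

variable {V : ModuleCat.{v} K}

theorem finite_subobject [Module.Finite K V] (S : Subobject V) :
    Module.Finite K (S : ModuleCat.{v} K) :=
  Module.Finite.of_injective S.arrow.hom ((ModuleCat.mono_iff_injective _).mp inferInstance)

theorem finrank_cokernel_of_mono {A B : ModuleCat.{v} K} (f : A ⟶ B) [Mono f]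
    [Module.Finite K B] :
    Module.finrank K (cokernel f : ModuleCat.{v} K) + Module.finrank K A = Module.finrank K B := by
  have hsurj : Function.Surjective (cokernel.π f).hom :=
    (ModuleCat.epi_iff_surjective _).mp inferInstance
  have hinj : Function.Injective f.hom := (ModuleCat.mono_iff_injective _).mp inferInstance
  have hex : (ShortComplex.mk f (cokernel.π f) (cokernel.condition f)).Exact :=
    ShortComplex.exact_cokernel f
  have hker : LinearMap.range f.hom = LinearMap.ker (cokernel.π f).hom :=
    hex.moduleCat_range_eq_ker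
  have h1 := LinearMap.finrank_range_add_finrank_ker (cokernel.π f).hom
  have h2 : Module.finrank K (LinearMap.range (cokernel.π f).hom) =
      Module.finrank K (cokernel f : ModuleCat.{v} K) := by
    rw [LinearMap.range_eq_top.mpr hsurj, finrank_top]
  have h3 : Module.finrank K (LinearMap.ker (cokernel.π f).hom) = Module.finrank K A := by
    rw [← hker, LinearMap.finrank_range_of_inj hinj]
  omega

variable (F : ℤ → Subobject V) (hF : Antitone F)

theorem finrank_grPiece [Module.Finite K V] (p : ℤ) :
    Module.finrank K (SpSeq.grPiece F hF p : ModuleCat.{v} K) +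
      Module.finrank K ((F (p + 1) : ModuleCat.{v} K)) =
      Module.finrank K ((F p : ModuleCat.{v} K)) := by
  haveI := finite_subobject (F p)
  exact finrank_cokernel_of_mono _

theorem sum_finrank_grPiece [Module.Finite K V] (a : ℤ) :
    ∀ (b : ℤ), a ≤ b →
      ∑ p ∈ Finset.Ico a b, Module.finrank K (SpSeq.grPiece F hF p : ModuleCat.{v} K) +
        Module.finrank K ((F b : ModuleCat.{v} K)) = Module.finrank K ((F a : ModuleCat.{v} K)) := by
  intro b hab
  induction b, hab using Int.le_induction with
  | base => simp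
  | succ n hn ih =>
    have hIco : Finset.Ico a (n + 1) = insert n (Finset.Ico a n) := by
      ext x; simp only [Finset.mem_Ico, Finset.mem_insert]; omega
    rw [hIco, Finset.sum_insert (by simp)]
    have := finrank_grPiece F hF n
    omega

theorem finrank_of_eq_top (S : Subobject V) (h : S = ⊤) :
    Module.finrank K (S : ModuleCat.{v} K) = Module.finrank K V := by
  haveI : IsIso S.arrow := (Subobject.isIso_arrow_iff_eq_top _).mpr h
  exact (asIso S.arrow).toLinearEquiv.finrank_eq

theorem finrank_of_eq_bot (S : Subobject V) (h : S = ⊥) :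
    Module.finrank K (S : ModuleCat.{v} K) = 0 := by
  have hz := isZero_of_eq_bot' S h
  haveI : Subsingleton (S : ModuleCat.{v} K) := ModuleCat.subsingleton_of_isZero hz
  exact Module.finrank_zero_of_subsingleton

end Fil

variable {r₀ : ℤ}

theorem stationaryAt_of_sum (E : CohomologicalSpectralSequence (ModuleCat.{v} K) r₀)
    (H : ℤ → ModuleCat.{v} K) (a : SpSeq.Abutment E H) (n : ℤ) (hfin : a.IsFinite n)
    (hquad : ∀ pq : ℤ × ℤ, pq.1 < 0 ∨ pq.2 < 0 → IsZero ((E.page r₀ le_rfl).X pq))
    (hfd : ∀ pq : ℤ × ℤ, Module.Finite K ((E.page r₀ le_rfl).X pq))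
    (hH : Module.Finite K (H n))
    (hsum : ∑ s ∈ Finset.Icc (0 : ℤ) n, Module.finrank K ((E.page r₀ le_rfl).X (s, n - s)) =
      Module.finrank K (H n)) :
    ∀ s : ℤ, SpSeq.StationaryAt E (s, n - s) r₀ := by
  intro s
  refine ⟨le_rfl, ?_⟩
  intro r' h₀ _
  by_cases hs : s < 0 ∨ n - s < 0
  · have hz := isZero_page_of_le E (s, n - s) r₀ le_rfl (hquad (s, n - s) hs) r' h₀
    exact ⟨hz.eq_of_tgt _ _, hz.eq_of_src _ _⟩
  · rw [not_or, not_lt, not_lt] at hs
    obtain ⟨hs0, hsn⟩ := hs
    have hn0 : 0 ≤ n := by omega
    -- transport lemmas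
    have trZ : ∀ (i m : ℤ) (h : m = n),
        IsZero (SpSeq.grPiece (a.fil m) (a.anti m) i) →
          IsZero (SpSeq.grPiece (a.fil n) (a.anti n) i) := by
      intro i m h; subst h; exact id
    have trF : ∀ (i m : ℤ) (h : m = n),
        Module.finrank K (SpSeq.grPiece (a.fil m) (a.anti m) i : ModuleCat.{v} K) =
          Module.finrank K (SpSeq.grPiece (a.fil n) (a.anti n) i : ModuleCat.{v} K) := by
      intro i m h; subst h; rfl
    have hidx : ∀ i : ℤ, i + (n - i) = n := fun i => by ring
    -- zero graded pieces outside [0, n]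
    have hgrZ : ∀ i : ℤ, i < 0 ∨ n - i < 0 →
        IsZero (SpSeq.grPiece (a.fil n) (a.anti n) i) := by
      intro i hi
      have hz := isZero_page_of_le E (i, n - i) r₀ le_rfl (hquad (i, n - i) hi)
        (a.rk (i, n - i)) (a.stat (i, n - i)).1
      exact trZ i (i + (n - i)) (hidx i) (IsZero.of_iso hz (a.β (i, n - i)).symm)
    have hF0 : a.fil n 0 = ⊤ :=
      fil_eq_top_of_isZero_gr_below (a.fil n) (a.anti n) hfin.1 0
        (fun i hi => hgrZ i (Or.inl hi))
    have hFn : a.fil n (n + 1) = ⊥ :=
      fil_eq_bot_of_isZero_gr_above (a.fil n) (a.anti n) hfin.2 n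
        (fun i hi => hgrZ i (Or.inr (by omega)))
    -- dimensions of graded pieces
    have hgr : ∀ p : ℤ, Module.finrank K (SpSeq.grPiece (a.fil n) (a.anti n) p : ModuleCat.{v} K) =
        Module.finrank K ((E.page (a.rk (p, n - p)) (a.stat (p, n - p)).1).X (p, n - p)) := by
      intro p
      rw [← trF p (p + (n - p)) (hidx p)]
      exact (a.β (p, n - p)).toLinearEquiv.finrank_eq.symm
    have hchain := fun p : ℤ => page_dim_chain E (p, n - p) (hfd (p, n - p))
    have hle : ∀ p : ℤ,
        Module.finrank K (SpSeq.grPiece (a.fil n) (a.anti n) p : ModuleCat.{v} K) ≤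
          Module.finrank K ((E.page r₀ le_rfl).X (p, n - p)) := by
      intro p
      rw [hgr p]
      exact ((hchain p) (a.rk (p, n - p)) (a.stat (p, n - p)).1).2.1
    -- telescoping
    haveI := hH
    have htel := sum_finrank_grPiece (a.fil n) (a.anti n) 0 (n + 1) (by omega)
    rw [finrank_of_eq_top _ hF0, finrank_of_eq_bot _ hFn, add_zero] at htel
    have hIcc : Finset.Icc (0 : ℤ) n = Finset.Ico 0 (n + 1) := by
      ext x; simp only [Finset.mem_Icc, Finset.mem_Ico]; omega
    rw [hIcc] at hsum
    have heq := (Finset.sum_eq_sum_iff_of_le (fun p _ => hle p)).mp (htel.trans hsum.symm) s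
      (by simp only [Finset.mem_Ico]; omega)
    rw [hgr s] at heq
    by_cases hr'rk : r' < a.rk (s, n - s)
    · exact ((hchain s) (a.rk (s, n - s)) (a.stat (s, n - s)).1).2.2 heq r' h₀ hr'rk
    · exact (a.stat (s, n - s)).2 r' h₀ (not_lt.mp hr'rk)

end Groth.Agent.Helper6.SpSeqLib
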